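import Mathlib

/-!
# Schematic density of an open whose complement has positive depth pointwise
-/

set_option autoImplicit false
universe u

open AlgebraicGeometry CategoryTheory Limits TopologicalSpace

namespace Groth.Agent.Lib.Helper24.SchDense

/-- a nonzero element cannot have a minimal prime of its annihilator at which the local ring has a
regular element in the maximal ideal. -/
theorem false_of_minimalPrime_of_regular {A S : Type*} [CommRing A] [CommRing S] [Algebra A S]
    (a : A) (p : Ideal A) [p.IsPrime] [IsLocalization.AtPrime S p] [IsLocalRing S]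
    (hp : p ∈ (Ideal.span {a}).annihilator.minimalPrimes)
    (r : S) (hr : r ∈ IsLocalRing.maximalIdeal S) (hreg : IsSMulRegular S r) : False := by
  have h1 : ((Ideal.span {a}).annihilator.map (algebraMap A S)).radical = IsLocalRing.maximalIdeal S := by
    rw [IsLocalization.AtPrime.radical_map_of_mem_minimalPrimes (A := S) p _ hp,
      IsLocalization.AtPrime.map_eq_maximalIdeal p S]
  rw [← h1] at hr
  obtain ⟨n, hn⟩ := hr
  -- the extended annihilator kills the image of `a`
  have h2 : (Ideal.span {a}).annihilator.map (algebraMap A S) ≤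
      (Ideal.span {algebraMap A S a}).annihilator := by
    rw [Ideal.map_le_iff_le_comap]
    intro i hi
    rw [Ideal.mem_comap, Submodule.mem_annihilator_span_singleton, smul_eq_mul, ← map_mul]
    rw [Submodule.mem_annihilator_span_singleton, smul_eq_mul] at hi
    rw [hi, map_zero]
  have h3 := h2 hn
  rw [Submodule.mem_annihilator_span_singleton, smul_eq_mul] at h3
  have h4 : algebraMap A S a = 0 := by
    have := (hreg.pow n)
    exact this (show r ^ n • algebraMap A S a = r ^ n • 0 by rw [smul_eq_mul, h3, smul_zero])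
  rw [IsLocalization.map_eq_zero_iff p.primeCompl] at h4
  obtain ⟨⟨s, hs⟩, hsa⟩ := h4
  apply hs
  apply hp.1.2
  rw [Submodule.mem_annihilator_span_singleton, smul_eq_mul]
  exact hsa

/-- if every point outside `U` has a regular element in its maximal ideal, then a function on an
affine open vanishing on `U` is zero. -/
theorem eq_zero_of_ι_app_eq_zero (X : Scheme.{u}) (U : X.Opens)
    (hZ : ∀ z : X, z ∉ U → ∃ a ∈ IsLocalRing.maximalIdeal (X.presheaf.stalk z),
      IsSMulRegular (X.presheaf.stalk z) a)
    {V : X.Opens} (hV : IsAffineOpen V) (a : Γ(X, V)) (ha : (U.ι.app V).hom a = 0) : a = 0 := by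
  by_contra hne
  have hI : (Ideal.span {a}).annihilator ≠ ⊤ := by
    intro h
    have : (1 : Γ(X, V)) ∈ (Ideal.span {a}).annihilator := h ▸ Submodule.mem_top
    rw [Submodule.mem_annihilator_span_singleton, one_smul] at this
    exact hne this
  obtain ⟨⟨p, hp⟩⟩ := Ideal.nonempty_minimalPrimes hI
  haveI : p.IsPrime := hp.1.1
  have hzV : hV.fromSpec ⟨p, inferInstance⟩ ∈ V := (hV.isoSpec.inv _).2
  have hzU : hV.fromSpec ⟨p, inferInstance⟩ ∉ U := by
    intro hzU
    obtain ⟨g, hg1, hg2⟩ := hV.exists_basicOpen_le (V := V ⊓ U)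
      ⟨hV.fromSpec ⟨p, inferInstance⟩, ⟨hzV, hzU⟩⟩ hzV
    have hle : X.basicOpen g ≤ U.ι ''ᵁ U.ι ⁻¹ᵁ V := by
      intro x hx
      have hx' := hg1 hx
      exact ⟨⟨x, hx'.2⟩, hx'.1, rfl⟩
    have h0 : (X.presheaf.map (homOfLE (X.basicOpen_le g)).op).hom a = 0 := by
      have h1 : X.presheaf.map (homOfLE (X.basicOpen_le g)).op =
          X.presheaf.map (homOfLE (x := U.ι ''ᵁ U.ι ⁻¹ᵁ V)
            (Set.image_preimage_subset _ _)).op ≫ X.presheaf.map (homOfLE hle).op := by
        rw [← Functor.map_comp]
        rfl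
      rw [h1, CommRingCat.comp_apply]
      rw [Scheme.Opens.ι_app] at ha
      exact (congrArg (X.presheaf.map (homOfLE hle).op).hom ha).trans (map_zero _)
    obtain ⟨n, hn⟩ := exists_pow_mul_eq_zero_of_res_basicOpen_eq_zero_of_isAffineOpen X hV a g h0
    have h2 : g ^ n ∈ (Ideal.span {a}).annihilator := by
      rw [Submodule.mem_annihilator_span_singleton, smul_eq_mul]
      exact hn
    have h3 : g ∈ p := Ideal.IsPrime.mem_of_pow_mem inferInstance n (hp.1.2 h2)
    have h4 : (⟨p, inferInstance⟩ : PrimeSpectrum Γ(X, V)) ∈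
        hV.fromSpec ⁻¹ᵁ X.basicOpen g := hg2
    rw [hV.fromSpec_preimage_basicOpen g] at h4
    exact h4 h3
  obtain ⟨r, hr, hreg⟩ := hZ _ hzU
  letI : Algebra Γ(X, V) (X.presheaf.stalk (hV.fromSpec ⟨p, inferInstance⟩)) :=
    TopCat.Presheaf.algebra_section_stalk X.presheaf ⟨_, hzV⟩
  haveI : IsLocalization.AtPrime (X.presheaf.stalk (hV.fromSpec ⟨p, inferInstance⟩)) p :=
    hV.isLocalization_stalk' ⟨p, inferInstance⟩ hzV
  exact false_of_minimalPrime_of_regular a p hp r hr hreg

end Groth.Agent.Lib.Helper24.SchDense
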