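import Mathlib
import Groth.Agent.Lib.Helper24.SchDense.Key

set_option autoImplicit false
universe u

open AlgebraicGeometry CategoryTheory Limits TopologicalSpace

namespace Groth.Agent.Lib.Helper24.SchDense

theorem app_eq_zero_of_comp {T Z X : Scheme.{u}} (k : T ⟶ Z) (i : Z ⟶ X) (g : T ⟶ X)
    (h : k ≫ i = g) (U : X.Opens) (s : Γ(X, U)) (hs : (i.app U).hom s = 0) :
    (g.app U).hom s = 0 := by
  subst h
  rw [Scheme.Hom.comp_app]
  change (k.app (i ⁻¹ᵁ U)).hom ((i.app U).hom s) = 0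
  rw [hs, map_zero]

/-- a closed immersion through which the open `U` factors is an isomorphism. -/
theorem isIso_of_factors (X : Scheme.{u}) (U : X.Opens)
    (hZ : ∀ z : X, z ∉ U → ∃ a ∈ IsLocalRing.maximalIdeal (X.presheaf.stalk z),
      IsSMulRegular (X.presheaf.stalk z) a)
    {E : Scheme.{u}} (e : E ⟶ X) [IsClosedImmersion e] (l : U.toScheme ⟶ E) (hl : l ≫ e = U.ι) :
    IsIso e := by
  rw [IsClosedImmersion.isIso_iff_ker_eq_bot, eq_bot_iff]
  intro V s hs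
  rw [Scheme.Hom.ker_apply, RingHom.mem_ker] at hs
  change s ∈ (⊥ : Ideal Γ(X, V.1))
  rw [Ideal.mem_bot]
  apply eq_zero_of_ι_app_eq_zero X U hZ V.2 s
  exact app_eq_zero_of_comp l e U.ι hl V.1 s hs

theorem main14271 (X : Scheme.{u}) (U : X.Opens)
    (hZ : ∀ z : X, z ∉ U → ∃ a ∈ IsLocalRing.maximalIdeal (X.presheaf.stalk z),
      IsSMulRegular (X.presheaf.stalk z) a)
    (Y : Scheme.{u}) (f : Y ⟶ X) [IsSeparated f] (s₁ s₂ : X ⟶ Y) (h₁ : s₁ ≫ f = 𝟙 X)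
    (h₂ : s₂ ≫ f = 𝟙 X) (hU : U.ι ≫ s₁ = U.ι ≫ s₂) : s₁ = s₂ := by
  let X' : Over X := Over.mk (𝟙 X)
  let Y' : Over X := Over.mk f
  let U' : Over X := Over.mk U.ι
  let a₁ : X' ⟶ Y' := Over.homMk s₁ h₁
  let a₂ : X' ⟶ Y' := Over.homMk s₂ h₂
  let ι' : U' ⟶ X' := Over.homMk U.ι (Category.comp_id _)
  haveI : IsSeparated Y'.hom := ‹_›
  have hcond : (equalizer.ι a₁ a₂).left ≫ s₁ = (equalizer.ι a₁ a₂).left ≫ s₂ :=
    congr($(equalizer.condition a₁ a₂).left)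
  have hι : ι' ≫ a₁ = ι' ≫ a₂ := by
    ext1
    exact hU
  have hl : (equalizer.lift ι' hι).left ≫ (equalizer.ι a₁ a₂).left = U.ι := by
    rw [← Over.comp_left, equalizer.lift_ι]
    rfl
  haveI : IsIso (equalizer.ι a₁ a₂).left :=
    isIso_of_factors X U hZ (equalizer.ι a₁ a₂).left (equalizer.lift ι' hι).left hl
  exact (cancel_epi (equalizer.ι a₁ a₂).left).1 hcond

end Groth.Agent.Lib.Helper24.SchDense
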